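import Groth.Agent.Lib.ProfTranslate.Component
import Groth.Agent.Lib.Rigidity.SmoothGroup
import Groth.Agent.Lib.GrpSchField.Components
import Groth.Agent.S5349
import Mathlib.AlgebraicGeometry.Geometrically.Irreducible
import Groth.Prelude.Def_AlgGrp

/-!
Morphisms out of a product with a connected group, and the finiteness of commutator subgroups.
-/

universe u

open CategoryTheory MonoidalCategory CartesianMonoidalCategory MonObj GrpObj AlgebraicGeometry
open CategoryTheory.Limits

namespace GrothLib.CommSub14

variable {k : Type u} [Field k]

set_option backward.isDefEq.respectTransparency false in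
/-- A connected group locally of finite type is geometrically irreducible. -/
theorem geometricallyIrreducible_of_connected (A : Over (Spec (CommRingCat.of k))) [GrpObj A]
    [LocallyOfFiniteType A.hom] [ConnectedSpace A.left] : GeometricallyIrreducible A.hom := by
  haveI := GrothLib.Rigidity.irreducibleSpace_of_connected A
  have h := GrothLib.GrpSchField.geometricallyIrreducible_component A (𝟙 A.left)
    (by
      rw [show Set.range (𝟙 A.left : A.left ⟶ A.left) = Set.univ from Set.range_id,
        irreducibleComponents_eq_singleton]
      exact rfl)
    ⟨_, rfl⟩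
  rw [Category.id_comp] at h
  exact h

/-- A morphism from a product with a connected group which is trivial at the unit lands in the component of the
unit. -/
theorem range_subset_unitComponent {A B X : Over (Spec (CommRingCat.of k))} [GrpObj A] [GrpObj X]
    [LocallyOfFiniteType A.hom] [ConnectedSpace A.left] (f : A ⊗ B ⟶ X)
    (hf : lift (1 : B ⟶ A) (𝟙 B) ≫ f = 1) : Set.range f.left ⊆ ProfTranslate.unitComponent X := by
  rintro _ ⟨P, rfl⟩
  haveI := geometricallyIrreducible_of_connected A
  haveI : GeometricallyIrreducible (snd A B).left :=
    inferInstanceAs (GeometricallyIrreducible (pullback.snd A.hom B.hom))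
  haveI : UniversallyOpen (snd A B).left := by
    haveI : UniversallyOpen A.hom := inferInstance
    exact inferInstanceAs (UniversallyOpen (pullback.snd A.hom B.hom))
  let y := (snd A B).left P
  have hirr : IsPreirreducible ((snd A B).left ⁻¹' {y}) :=
    ((snd A B).left.isIrreducible_preimage (snd A B).left.isOpenMap isIrreducible_singleton).isPreirreducible
  have hy : (lift (1 : B ⟶ A) (𝟙 B)).left y ∈ (snd A B).left ⁻¹' {y} := by
    rw [Set.mem_preimage, ← Scheme.Hom.comp_apply, ← Over.comp_left, lift_snd]
    rfl
  refine ((hirr.image f.left f.left.continuous.continuousOn).isPreconnected).subset_connectedComponent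
    ⟨_, hy, ?_⟩ ⟨P, rfl, rfl⟩
  rw [← Scheme.Hom.comp_apply, ← Over.comp_left, hf, Hom.one_def, Over.comp_left, Scheme.Hom.comp_apply]
  exact congrArg η[X].left (Subsingleton.elim (α := Spec (CommRingCat.of k)) _ _)

/-- The component of the unit of a group over a field is quasi-compact. -/
theorem compactSpace_component (X : Over (Spec (CommRingCat.of k))) [GrpObj X] :
    CompactSpace (ProfTranslate.component X).left := by
  obtain ⟨hC, -⟩ := ProfTranslate.exists_grpObj X
  letI := hC
  let C := ProfTranslate.component X
  haveI := ProfTranslate.geometricallyIrreducible X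
  haveI : UniversallyOpen C.hom := inferInstance
  haveI : IrreducibleSpace C.left := GeometricallyIrreducible.irreducibleSpace_of_subsingleton (f := C.hom)
  let a : AlgGrp.Action C C :=
    { act := μ[C], one_act := MonObj.one_mul C, mul_act := MonObj.mul_assoc C }
  haveI : IsIso (lift a.act (snd C C)) := by
    have e : lift a.act (snd C C) = lift (fst C C * snd C C) (snd C C) := by
      rw [Hom.mul_def, lift_fst_snd, Category.id_comp]
    rw [e]
    refine ⟨lift (fst C C * (snd C C)⁻¹) (snd C C), ?_, ?_⟩
    · rw [comp_lift, MonObj.comp_mul, GrpObj.comp_inv, lift_fst, lift_snd, mul_inv_cancel_right, lift_fst_snd]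
    · rw [comp_lift, MonObj.comp_mul, lift_fst, lift_snd, inv_mul_cancel_right, lift_fst_snd]
  haveI : IsIso (lift a.act (snd C C)).left := inferInstanceAs (IsIso ((Over.forget _).map (lift a.act (snd C C))))
  exact Groth.Agent.S5349.result k C C a inferInstance

end GrothLib.CommSub14
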